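import Cfsg.Agent.H15.T.Sec5.D0

/-! Generated by tools/h0/tr.py. -/

set_option maxRecDepth 100000
set_option maxHeartbeats 0

namespace H15.XSec5
open H16 H0.TR
open scoped Pointwise

theorem mlc : H15.allTo (fun k => H15.isCo (nth 0 Ws k) (nth [] C k)) 11 = true := by decide +kernel
theorem o0e0 : 33554436 ∈ o0F0 ∧ H15.mapV C 11 [5] 33554436 581416766 = true := by decide +kernel
theorem o0e1 : 581416766 ∈ o0F1 ∧ H15.mapV C 11 [5] 581416766 586061958 = true := by decide +kernel
theorem o0e2 : 586061958 ∈ o0F2 ∧ H15.mapV C 11 [5] 586061958 17867402953237 = true := by decide +kernel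
theorem o0e3 : 245 < 4600 ∧ o0R3 = o0F3.map (fun f => (H15.revc (H15.code f), H15.dk (H15.code (H15.X46.Z 245)) (H15.revc (H15.code f)))) := by decide +kernel
theorem o0s3 : H15.sumTo2 (fun j => H16.force (H15.X46.Z j) fun z => Bool.rec 0 1 (H15.lvT o0R3 z)) 46 100 = 25 := by decide +kernel
theorem o0e4 : 107986602 ∈ o0F4 ∧ H15.mapV C 11 [5] 107986602 158332368495265 = true := by decide +kernel
theorem o0e5 : 158332368495265 ∈ o0F5 ∧ H15.mapV C 11 [5] 158332368495265 2199414726 = true := by decide +kernel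
theorem o0e6 : 2199414726 ∈ o0F6 ∧ H15.mapV C 11 [5] 2199414726 90999510 = true := by decide +kernel
theorem o0e7 : 842 < 4600 ∧ o0R7 = o0F7.map (fun f => (H15.revc (H15.code f), H15.dk (H15.code (H15.X46.Z 842)) (H15.revc (H15.code f)))) := by decide +kernel
theorem o0s7 : H15.sumTo2 (fun j => H16.force (H15.X46.Z j) fun z => Bool.rec 0 1 (H15.lvT o0R7 z)) 46 100 = 2 := by decide +kernel
theorem o0e8 : 127549186 ∈ o0F8 ∧ H15.mapV C 11 [5] 127549186 192446714 = true := by decide +kernel
theorem o0e9 : 192446714 ∈ o0F9 ∧ H15.mapV C 11 [5] 192446714 35184374473050 = true := by decide +kernel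
theorem o0e10 : 35184374473050 ∈ o0F10 ∧ H15.mapV C 11 [5] 35184374473050 36876735056393 = true := by decide +kernel
theorem o0e11 : 15 < 4600 ∧ o0R11 = o0F11.map (fun f => (H15.revc (H15.code f), H15.dk (H15.code (H15.X46.Z 15)) (H15.revc (H15.code f)))) := by decide +kernel
theorem o0s11 : H15.sumTo2 (fun j => H16.force (H15.X46.Z j) fun z => Bool.rec 0 1 (H15.lvT o0R11 z)) 46 100 = 1 := by decide +kernel
theorem o0e12 : 67371012 ∈ o0F12 ∧ H15.mapV C 11 [5] 67371012 68773762274 = true := by decide +kernel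
theorem o0e13 : 68773762274 ∈ o0F13 ∧ H15.mapV C 11 [5] 68773762274 38690490789 = true := by decide +kernel
theorem o0e14 : 38690490789 ∈ o0F14 ∧ H15.mapV C 11 [5] 38690490789 35184427119130 = true := by decide +kernel
theorem o0e15 : 0 < 4600 ∧ o0R15 = o0F15.map (fun f => (H15.revc (H15.code f), H15.dk (H15.code (H15.X46.Z 0)) (H15.revc (H15.code f)))) := by decide +kernel
theorem o0s15 : H15.sumTo2 (fun j => H16.force (H15.X46.Z j) fun z => Bool.rec 0 1 (H15.lvT o0R15 z)) 46 100 = 1 := by decide +kernel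
theorem o0e16 : 67108876 ∈ o0F16 ∧ H15.mapV C 11 [5] 67108876 17594343167617 = true := by decide +kernel
theorem o0e17 : 17594343167617 ∈ o0F17 ∧ H15.mapV C 11 [5] 17594343167617 1099660722317 = true := by decide +kernel
theorem o0e18 : 1099660722317 ∈ o0F18 ∧ H15.mapV C 11 [5] 1099660722317 105647747110413 = true := by decide +kernel
theorem o0e19 : 2191 < 4600 ∧ o0R19 = o0F19.map (fun f => (H15.revc (H15.code f), H15.dk (H15.code (H15.X46.Z 2191)) (H15.revc (H15.code f)))) := by decide +kernel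
theorem o0s19 : H15.sumTo2 (fun j => H16.force (H15.X46.Z j) fun z => Bool.rec 0 1 (H15.lvT o0R19 z)) 46 100 = 1 := by decide +kernel
theorem o0e20 : 149 < 4600 ∧ o0R20 = o0F20.map (fun f => (H15.revc (H15.code f), H15.dk (H15.code (H15.X46.Z 149)) (H15.revc (H15.code f)))) := by decide +kernel
theorem o0s20 : H15.sumTo2 (fun j => H16.force (H15.X46.Z j) fun z => Bool.rec 0 1 (H15.lvT o0R20 z)) 46 100 = 1 := by decide +kernel
theorem o0e21 : 433 < 4600 ∧ o0R21 = o0F21.map (fun f => (H15.revc (H15.code f), H15.dk (H15.code (H15.X46.Z 433)) (H15.revc (H15.code f)))) := by decide +kernel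
theorem o0s21 : H15.sumTo2 (fun j => H16.force (H15.X46.Z j) fun z => Bool.rec 0 1 (H15.lvT o0R21 z)) 46 100 = 1 := by decide +kernel
theorem o0e22 : 763 < 4600 ∧ o0R22 = o0F22.map (fun f => (H15.revc (H15.code f), H15.dk (H15.code (H15.X46.Z 763)) (H15.revc (H15.code f)))) := by decide +kernel
theorem o0s22 : H15.sumTo2 (fun j => H16.force (H15.X46.Z j) fun z => Bool.rec 0 1 (H15.lvT o0R22 z)) 46 100 = 1 := by decide +kernel
theorem o0e23 : 851 < 4600 ∧ o0R23 = o0F23.map (fun f => (H15.revc (H15.code f), H15.dk (H15.code (H15.X46.Z 851)) (H15.revc (H15.code f)))) := by decide +kernel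
theorem o0s23 : H15.sumTo2 (fun j => H16.force (H15.X46.Z j) fun z => Bool.rec 0 1 (H15.lvT o0R23 z)) 46 100 = 1 := by decide +kernel
theorem o0e24 : 1508 < 4600 ∧ o0R24 = o0F24.map (fun f => (H15.revc (H15.code f), H15.dk (H15.code (H15.X46.Z 1508)) (H15.revc (H15.code f)))) := by decide +kernel
theorem o0s24 : H15.sumTo2 (fun j => H16.force (H15.X46.Z j) fun z => Bool.rec 0 1 (H15.lvT o0R24 z)) 46 100 = 1 := by decide +kernel
theorem o0f : ∀ β ∈ H15.Co2.B, H15.Co2.Z β ∈ o0F25 := by decide +kernel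
theorem o0c : H15.eqV C 11 ([5] ++ []) ([] ++ [5]) = true ∧ H15.mapV C 11 [5] 33554436 581416766 = true ∧ H15.dk (H15.code 581416766) H15.rU = 7 := by decide +kernel
theorem o1e0 : 33554436 ∈ o1F0 ∧ H15.mapV C 11 [8] 33554436 39102467248193 = true := by decide +kernel
theorem o1e1 : 39102467248193 ∈ o1F1 ∧ H15.mapV C 11 [8] 39102467248193 563543835449925 = true := by decide +kernel
theorem o1e2 : 563543835449925 ∈ o1F2 ∧ H15.mapV C 11 [8] 563543835449925 712483644574213 = true := by decide +kernel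
theorem o1e3 : 93 < 4600 ∧ o1R3 = o1F3.map (fun f => (H15.revc (H15.code f), H15.dk (H15.code (H15.X46.Z 93)) (H15.revc (H15.code f)))) := by decide +kernel
theorem o1s3 : H15.sumTo2 (fun j => H16.force (H15.X46.Z j) fun z => Bool.rec 0 1 (H15.lvT o1R3 z)) 46 100 = 32 := by decide +kernel
theorem o1e4 : 103003858 ∈ o1F4 ∧ H15.mapV C 11 [8] 103003858 35184438734630 = true := by decide +kernel
theorem o1e5 : 35184438734630 ∈ o1F5 ∧ H15.mapV C 11 [8] 35184438734630 193514192341513 = true := by decide +kernel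
theorem o1e6 : 193514192341513 ∈ o1F6 ∧ H15.mapV C 11 [8] 193514192341513 4432416507973 = true := by decide +kernel
theorem o1e7 : 1604 < 4600 ∧ o1R7 = o1F7.map (fun f => (H15.revc (H15.code f), H15.dk (H15.code (H15.X46.Z 1604)) (H15.revc (H15.code f)))) := by decide +kernel
theorem o1s7 : H15.sumTo2 (fun j => H16.force (H15.X46.Z j) fun z => Bool.rec 0 1 (H15.lvT o1R7 z)) 46 100 = 5 := by decide +kernel
theorem o1e8 : 562949971001238 ∈ o1F8 ∧ H15.mapV C 11 [8] 562949971001238 167400688993345 = true := by decide +kernel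
theorem o1e9 : 167400688993345 ∈ o1F9 ∧ H15.mapV C 11 [8] 167400688993345 8796104242362 = true := by decide +kernel
theorem o1e10 : 8796104242362 ∈ o1F10 ∧ H15.mapV C 11 [8] 8796104242362 70368761466722 = true := by decide +kernel
theorem o1e11 : 3 < 4600 ∧ o1R11 = o1F11.map (fun f => (H15.revc (H15.code f), H15.dk (H15.code (H15.X46.Z 3)) (H15.revc (H15.code f)))) := by decide +kernel
theorem o1s11 : H15.sumTo2 (fun j => H16.force (H15.X46.Z j) fun z => Bool.rec 0 1 (H15.lvT o1R11 z)) 46 100 = 1 := by decide +kernel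
theorem o1e12 : 67108932 ∈ o1F12 ∧ H15.mapV C 11 [8] 67108932 140738069626917 = true := by decide +kernel
theorem o1e13 : 140738069626917 ∈ o1F13 ∧ H15.mapV C 11 [8] 140738069626917 35184393549130 = true := by decide +kernel
theorem o1e14 : 35184393549130 ∈ o1F14 ∧ H15.mapV C 11 [8] 35184393549130 34394833474 = true := by decide +kernel
theorem o1e15 : 0 < 4600 ∧ o1R15 = o1F15.map (fun f => (H15.revc (H15.code f), H15.dk (H15.code (H15.X46.Z 0)) (H15.revc (H15.code f)))) := by decide +kernel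
theorem o1s15 : H15.sumTo2 (fun j => H16.force (H15.X46.Z j) fun z => Bool.rec 0 1 (H15.lvT o1R15 z)) 46 100 = 1 := by decide +kernel
theorem o1e16 : 67108876 ∈ o1F16 ∧ H15.mapV C 11 [8] 67108876 4398107092522 = true := by decide +kernel
theorem o1e17 : 4398107092522 ∈ o1F17 ∧ H15.mapV C 11 [8] 4398107092522 4398079161738 = true := by decide +kernel
theorem o1e18 : 4398079161738 ∈ o1F18 ∧ H15.mapV C 11 [8] 4398079161738 309263363077 = true := by decide +kernel
theorem o1e19 : 1 < 4600 ∧ o1R19 = o1F19.map (fun f => (H15.revc (H15.code f), H15.dk (H15.code (H15.X46.Z 1)) (H15.revc (H15.code f)))) := by decide +kernel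
theorem o1s19 : H15.sumTo2 (fun j => H16.force (H15.X46.Z j) fun z => Bool.rec 0 1 (H15.lvT o1R19 z)) 46 100 = 1 := by decide +kernel
theorem o1e20 : 67108884 ∈ o1F20 ∧ H15.mapV C 11 [8] 67108884 703687486177317 = true := by decide +kernel
theorem o1e21 : 703687486177317 ∈ o1F21 ∧ H15.mapV C 11 [8] 703687486177317 4398054470938 = true := by decide +kernel
theorem o1e22 : 4398054470938 ∈ o1F22 ∧ H15.mapV C 11 [8] 4398054470938 34363113650 = true := by decide +kernel
theorem o1e23 : 2191 < 4600 ∧ o1R23 = o1F23.map (fun f => (H15.revc (H15.code f), H15.dk (H15.code (H15.X46.Z 2191)) (H15.revc (H15.code f)))) := by decide +kernel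
theorem o1s23 : H15.sumTo2 (fun j => H16.force (H15.X46.Z j) fun z => Bool.rec 0 1 (H15.lvT o1R23 z)) 46 100 = 1 := by decide +kernel
theorem o1e24 : 149 < 4600 ∧ o1R24 = o1F24.map (fun f => (H15.revc (H15.code f), H15.dk (H15.code (H15.X46.Z 149)) (H15.revc (H15.code f)))) := by decide +kernel
theorem o1s24 : H15.sumTo2 (fun j => H16.force (H15.X46.Z j) fun z => Bool.rec 0 1 (H15.lvT o1R24 z)) 46 100 = 1 := by decide +kernel
theorem o1e25 : 433 < 4600 ∧ o1R25 = o1F25.map (fun f => (H15.revc (H15.code f), H15.dk (H15.code (H15.X46.Z 433)) (H15.revc (H15.code f)))) := by decide +kernel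
theorem o1s25 : H15.sumTo2 (fun j => H16.force (H15.X46.Z j) fun z => Bool.rec 0 1 (H15.lvT o1R25 z)) 46 100 = 1 := by decide +kernel
theorem o1e26 : 763 < 4600 ∧ o1R26 = o1F26.map (fun f => (H15.revc (H15.code f), H15.dk (H15.code (H15.X46.Z 763)) (H15.revc (H15.code f)))) := by decide +kernel
theorem o1s26 : H15.sumTo2 (fun j => H16.force (H15.X46.Z j) fun z => Bool.rec 0 1 (H15.lvT o1R26 z)) 46 100 = 1 := by decide +kernel
theorem o1e27 : 851 < 4600 ∧ o1R27 = o1F27.map (fun f => (H15.revc (H15.code f), H15.dk (H15.code (H15.X46.Z 851)) (H15.revc (H15.code f)))) := by decide +kernel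
theorem o1s27 : H15.sumTo2 (fun j => H16.force (H15.X46.Z j) fun z => Bool.rec 0 1 (H15.lvT o1R27 z)) 46 100 = 1 := by decide +kernel
theorem o1e28 : 1508 < 4600 ∧ o1R28 = o1F28.map (fun f => (H15.revc (H15.code f), H15.dk (H15.code (H15.X46.Z 1508)) (H15.revc (H15.code f)))) := by decide +kernel
theorem o1s28 : H15.sumTo2 (fun j => H16.force (H15.X46.Z j) fun z => Bool.rec 0 1 (H15.lvT o1R28 z)) 46 100 = 1 := by decide +kernel
theorem o1f : ∀ β ∈ H15.Co2.B, H15.Co2.Z β ∈ o1F29 := by decide +kernel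
theorem o1c : H15.eqV C 11 ([8] ++ [7]) ([7] ++ [5]) = true ∧ H15.mapV C 11 [8] 33554436 39102467248193 = true ∧ H15.dk (H15.code 39102467248193) H15.rU = 8 := by decide +kernel
theorem o2e0 : 33554436 ∈ o2F0 ∧ H15.mapV C 11 [10] 33554436 110773314 = true := by decide +kernel
theorem o2e1 : 110773314 ∈ o2F1 ∧ H15.mapV C 11 [10] 110773314 8642656690 = true := by decide +kernel
theorem o2e2 : 8642656690 ∈ o2F2 ∧ H15.mapV C 11 [10] 8642656690 549915255321 = true := by decide +kernel
theorem o2e3 : 816 < 4600 ∧ o2R3 = o2F3.map (fun f => (H15.revc (H15.code f), H15.dk (H15.code (H15.X46.Z 816)) (H15.revc (H15.code f)))) := by decide +kernel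
theorem o2s3 : H15.sumTo2 (fun j => H16.force (H15.X46.Z j) fun z => Bool.rec 0 1 (H15.lvT o2R3 z)) 46 100 = 32 := by decide +kernel
theorem o2e4 : 126712338 ∈ o2F4 ∧ H15.mapV C 11 [10] 126712338 70618086 = true := by decide +kernel
theorem o2e5 : 70618086 ∈ o2F5 ∧ H15.mapV C 11 [10] 70618086 131761450 = true := by decide +kernel
theorem o2e6 : 131761450 ∈ o2F6 ∧ H15.mapV C 11 [10] 131761450 281614849974421 = true := by decide +kernel
theorem o2e7 : 1429 < 4600 ∧ o2R7 = o2F7.map (fun f => (H15.revc (H15.code f), H15.dk (H15.code (H15.X46.Z 1429)) (H15.revc (H15.code f)))) := by decide +kernel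
theorem o2s7 : H15.sumTo2 (fun j => H16.force (H15.X46.Z j) fun z => Bool.rec 0 1 (H15.lvT o2R7 z)) 46 100 = 5 := by decide +kernel
theorem o2e8 : 562949965283254 ∈ o2F8 ∧ H15.mapV C 11 [10] 562949965283254 549900567629 = true := by decide +kernel
theorem o2e9 : 549900567629 ∈ o2F9 ∧ H15.mapV C 11 [10] 549900567629 1099577820254 = true := by decide +kernel
theorem o2e10 : 1099577820254 ∈ o2F10 ∧ H15.mapV C 11 [10] 1099577820254 562950019119986 = true := by decide +kernel
theorem o2e11 : 1 < 4600 ∧ o2R11 = o2F11.map (fun f => (H15.revc (H15.code f), H15.dk (H15.code (H15.X46.Z 1)) (H15.revc (H15.code f)))) := by decide +kernel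
theorem o2s11 : H15.sumTo2 (fun j => H16.force (H15.X46.Z j) fun z => Bool.rec 0 1 (H15.lvT o2R11 z)) 46 100 = 1 := by decide +kernel
theorem o2e12 : 67108884 ∈ o2F12 ∧ H15.mapV C 11 [10] 67108884 4542734148017 = true := by decide +kernel
theorem o2e13 : 4542734148017 ∈ o2F13 ∧ H15.mapV C 11 [10] 4542734148017 549761713306 = true := by decide +kernel
theorem o2e14 : 549761713306 ∈ o2F14 ∧ H15.mapV C 11 [10] 549761713306 985162745676209 = true := by decide +kernel
theorem o2e15 : 0 < 4600 ∧ o2R15 = o2F15.map (fun f => (H15.revc (H15.code f), H15.dk (H15.code (H15.X46.Z 0)) (H15.revc (H15.code f)))) := by decide +kernel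
theorem o2s15 : H15.sumTo2 (fun j => H16.force (H15.X46.Z j) fun z => Bool.rec 0 1 (H15.lvT o2R15 z)) 46 100 = 1 := by decide +kernel
theorem o2e16 : 67108876 ∈ o2F16 ∧ H15.mapV C 11 [10] 67108876 4409321276069 = true := by decide +kernel
theorem o2e17 : 4409321276069 ∈ o2F17 ∧ H15.mapV C 11 [10] 4409321276069 563517059278345 = true := by decide +kernel
theorem o2e18 : 563517059278345 ∈ o2F18 ∧ H15.mapV C 11 [10] 563517059278345 137504180762 = true := by decide +kernel
theorem o2e19 : 2191 < 4600 ∧ o2R19 = o2F19.map (fun f => (H15.revc (H15.code f), H15.dk (H15.code (H15.X46.Z 2191)) (H15.revc (H15.code f)))) := by decide +kernel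
theorem o2s19 : H15.sumTo2 (fun j => H16.force (H15.X46.Z j) fun z => Bool.rec 0 1 (H15.lvT o2R19 z)) 46 100 = 1 := by decide +kernel
theorem o2e20 : 149 < 4600 ∧ o2R20 = o2F20.map (fun f => (H15.revc (H15.code f), H15.dk (H15.code (H15.X46.Z 149)) (H15.revc (H15.code f)))) := by decide +kernel

end H15.XSec5
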